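import Mathlib
import Cfsg.Agent.Components.Basic

/-!
Quasisimple groups and elementary abelian groups acting on a finite abelian group: basic lemmas for
Chermak's theorem that best offenders normalize components.
-/

set_option autoImplicit false

namespace Cfsg.Agent.LocEven.Chermak

open Cfsg

variable {V : Type*} [AddCommGroup V]

/-- The common fixed points of a set of endomorphisms. -/
def fix (s : Set (AddMonoid.End V)) : AddSubgroup V where
  carrier := {v | ∀ f ∈ s, f v = v}
  add_mem' {u v} hu hv f hf := by rw [map_add, hu f hf, hv f hf]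
  zero_mem' f _ := map_zero f
  neg_mem' {v} hv f hf := by rw [map_neg, hv f hf]

theorem mem_fix {s : Set (AddMonoid.End V)} {v : V} : v ∈ fix s ↔ ∀ f ∈ s, f v = v := Iff.rfl

theorem mem_fix_range {ι : Type*} {φ : ι → AddMonoid.End V} {v : V} :
    v ∈ fix (Set.range φ) ↔ ∀ i, φ i v = v :=
  ⟨fun h i => h _ ⟨i, rfl⟩, fun h f hf => by obtain ⟨i, rfl⟩ := hf; exact h i⟩

theorem fix_anti {s t : Set (AddMonoid.End V)} (h : s ⊆ t) : fix t ≤ fix s :=
  fun _ hv f hf => hv f (h hf)

theorem fix_mem_of_commute {s : Set (AddMonoid.End V)} {g : AddMonoid.End V}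
    (h : ∀ f ∈ s, Commute f g) {v : V} (hv : v ∈ fix s) : g v ∈ fix s := by
  intro f hf
  show (f * g) v = g v
  rw [(h f hf).eq]
  exact congrArg g (hv f hf)

/-- Restriction of an action to an invariant subgroup. -/
def restr {M : Type*} [Monoid M] (σ : M →* AddMonoid.End V) (U : AddSubgroup V)
    (hU : ∀ (k : M), ∀ u ∈ U, σ k u ∈ U) : M →* AddMonoid.End U where
  toFun k := AddMonoidHom.mk' (fun u => ⟨σ k u, hU k u u.2⟩) fun u v => Subtype.ext (map_add _ _ _)
  map_one' := by
    refine AddMonoidHom.ext fun u => Subtype.ext ?_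
    show σ 1 (u : V) = u
    rw [map_one]
    rfl
  map_mul' k l := by
    refine AddMonoidHom.ext fun u => Subtype.ext ?_
    show σ (k * l) (u : V) = σ k (σ l u)
    rw [map_mul]
    rfl

theorem restr_apply {M : Type*} [Monoid M] (σ : M →* AddMonoid.End V) (U : AddSubgroup V)
    (hU : ∀ (k : M), ∀ u ∈ U, σ k u ∈ U) (k : M) (u : U) :
    ((restr σ U hU k u : U) : V) = σ k u := rfl

/-- The action on a quotient by an invariant subgroup. -/
def quot {M : Type*} [Monoid M] (σ : M →* AddMonoid.End V) (U : AddSubgroup V)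
    (hU : ∀ (k : M), ∀ u ∈ U, σ k u ∈ U) : M →* AddMonoid.End (V ⧸ U) where
  toFun k := QuotientAddGroup.map U U (σ k) (hU k)
  map_one' := by
    refine AddMonoidHom.ext fun u => ?_
    induction u using QuotientAddGroup.induction_on with
    | H v =>
      show ((σ 1 v : V) : V ⧸ U) = (v : V ⧸ U)
      rw [map_one]
      rfl
  map_mul' k l := by
    refine AddMonoidHom.ext fun u => ?_
    induction u using QuotientAddGroup.induction_on with
    | H v =>
      show ((σ (k * l) v : V) : V ⧸ U) = ((σ k (σ l v) : V) : V ⧸ U)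
      rw [map_mul]
      rfl

theorem quot_mk {M : Type*} [Monoid M] (σ : M →* AddMonoid.End V) (U : AddSubgroup V)
    (hU : ∀ (k : M), ∀ u ∈ U, σ k u ∈ U) (k : M) (v : V) :
    quot σ U hU k (v : V ⧸ U) = ((σ k v : V) : V ⧸ U) := rfl

theorem endo_mul_apply (f g : AddMonoid.End V) (v : V) : (f * g) v = f (g v) := rfl

theorem endo_pow_fix {f : AddMonoid.End V} {v : V} (h : f v = v) : ∀ n : ℕ, (f ^ n) v = v
  | 0 => rfl
  | n + 1 => by rw [pow_succ, endo_mul_apply, h, endo_pow_fix h n]

theorem endo_pow_apply_of_fix_shift {f : AddMonoid.End V} {v u : V} (h : f v = v + u) (hu : f u = u) :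
    ∀ n : ℕ, (f ^ n) v = v + n • u
  | 0 => by simp
  | n + 1 => by
    rw [pow_succ', endo_mul_apply, endo_pow_apply_of_fix_shift h hu n, map_add, map_nsmul, h, hu,
      add_assoc, succ_nsmul']

/-- An element of order prime to the exponent acts semisimply: no unipotent part. -/
theorem eq_of_coprime_pow {p : ℕ} (hV : ∀ v : V, p • v = 0) {f : AddMonoid.End V} {m : ℕ}
    (hm : f ^ m = 1) (hcop : Nat.Coprime m p) {v : V} (h : f (f v - v) = f v - v) : f v = v := by
  have h1 := endo_pow_apply_of_fix_shift (show f v = v + (f v - v) by abel) h m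
  rw [hm] at h1
  have h2 : m • (f v - v) = 0 := by
    have : v = v + m • (f v - v) := h1
    exact left_eq_add.mp this
  have h3 : addOrderOf (f v - v) ∣ Nat.gcd m p :=
    Nat.dvd_gcd (addOrderOf_dvd_of_nsmul_eq_zero h2) (addOrderOf_dvd_of_nsmul_eq_zero (hV _))
  rw [hcop.gcd_eq_one, Nat.dvd_one, AddMonoid.addOrderOf_eq_one_iff, sub_eq_zero] at h3
  exact h3

section Quasisimple

variable {K : Type*} [Group K]

/-- A homomorphism of a perfect group with commutative image is trivial. -/
theorem hom_trivial_of_comm (hK : IsQuasisimple K) {M : Type*} [Monoid M] (τ : K →* M)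
    (h : ∀ k l, τ k * τ l = τ l * τ k) (k : K) : τ k = 1 := by
  have hle : commutator K ≤ τ.ker := by
    rw [commutator_def, Subgroup.commutator_le]
    intro a _ b _
    rw [MonoidHom.mem_ker, commutatorElement_def, map_mul, map_mul, map_mul, h a b,
      mul_assoc (τ b) (τ a), ← map_mul τ a a⁻¹, mul_inv_cancel, map_one, mul_one,
      ← map_mul τ b b⁻¹, mul_inv_cancel, map_one]
  have := hK.1.commutator_eq_top
  exact MonoidHom.mem_ker.mp (hle (this ▸ Subgroup.mem_top k))

/-- A subset closed under the group laws and conjugation containing a noncentral element. -/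
theorem forall_of_noncentral (hK : IsQuasisimple K) (P : K → Prop) (h1 : P 1)
    (hmul : ∀ a b, P a → P b → P (a * b)) (hinv : ∀ a, P a → P a⁻¹)
    (hconj : ∀ g a, P a → P (g * a * g⁻¹)) {x : K} (hx : x ∉ Subgroup.center K) (hPx : P x) :
    ∀ k, P k := by
  let N : Subgroup K :=
    { carrier := {k | P k}, one_mem' := h1, mul_mem' := hmul _ _, inv_mem' := hinv _ }
  rcases Components.quasisimple_normal hK (N := N) ⟨fun a ha g => hconj g a ha⟩ with h | h
  · exact fun k => (h ▸ Subgroup.mem_top k : k ∈ N)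
  · exact absurd (h hPx) hx

/-- If a noncentral element fixes an invariant subgroup pointwise, so does the whole group. -/
theorem fix_all_of_noncentral (hK : IsQuasisimple K) (τ : K →* AddMonoid.End V) (U : AddSubgroup V)
    (hU : ∀ k, ∀ u ∈ U, τ k u ∈ U) {x : K} (hx : x ∉ Subgroup.center K)
    (hfix : ∀ u ∈ U, τ x u = u) : ∀ k, ∀ u ∈ U, τ k u = u := by
  refine forall_of_noncentral hK (fun k => ∀ u ∈ U, τ k u = u) (by simp) ?_ ?_ ?_ hx hfix
  · intro a b ha hb u hu
    rw [map_mul, endo_mul_apply, hb u hu, ha u hu]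
  · intro a ha u hu
    conv_lhs => rw [← ha u hu, ← endo_mul_apply, ← map_mul, inv_mul_cancel, map_one]
    rfl
  · intro g a ha u hu
    rw [map_mul, map_mul, endo_mul_apply, endo_mul_apply, ha _ (hU _ u hu), ← endo_mul_apply,
      ← map_mul, mul_inv_cancel, map_one]
    rfl

/-- Central action on an invariant subgroup forces trivial action. -/
theorem fix_all_of_central (hK : IsQuasisimple K) (τ : K →* AddMonoid.End V) (U : AddSubgroup V)
    (hU : ∀ k, ∀ u ∈ U, τ k u ∈ U) {x : K} (hx : x ∉ Subgroup.center K)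
    (hc : ∀ l, ∀ u ∈ U, τ x (τ l u) = τ l (τ x u)) : ∀ k, ∀ u ∈ U, τ k u = u := by
  have hall : ∀ k l, ∀ u ∈ U, τ k (τ l u) = τ l (τ k u) := by
    refine forall_of_noncentral hK (fun k => ∀ l, ∀ u ∈ U, τ k (τ l u) = τ l (τ k u)) ?_ ?_ ?_ ?_
      hx hc
    · intro l u _; simp
    · intro a b ha hb l u hu
      rw [map_mul, endo_mul_apply, endo_mul_apply, hb l u hu, ha l _ (hU _ _ hu)]
    · intro a ha l u hu
      have h := ha l _ (hU a⁻¹ u hu)
      rw [← endo_mul_apply (τ a) (τ a⁻¹), ← map_mul, mul_inv_cancel, map_one] at h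
      have h2 := congrArg (τ a⁻¹) h
      rw [← endo_mul_apply (τ a⁻¹) (τ a), ← map_mul, inv_mul_cancel, map_one] at h2
      exact h2.symm
    · intro g a ha l u hu
      have h := ha (g⁻¹ * l * g) _ (hU g⁻¹ u hu)
      have h2 := congrArg (τ g) h
      simp only [← endo_mul_apply, ← map_mul] at h2 ⊢
      simpa [mul_assoc] using h2
  intro k u hu
  have := hom_trivial_of_comm hK (restr τ U hU)
    (fun a b => AddMonoidHom.ext fun v => Subtype.ext (hall a b v v.2)) k
  exact congrArg Subtype.val (DFunLike.congr_fun this ⟨u, hu⟩)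

/-- A perfect group stabilizing a series of length two acts trivially. -/
theorem trivial_of_series (hK : IsQuasisimple K) (τ : K →* AddMonoid.End V)
    (h : ∀ k l v, τ l (τ k v - v) = τ k v - v) (k : K) : τ k = 1 := by
  refine hom_trivial_of_comm hK τ (fun a b => AddMonoidHom.ext fun v => ?_) k
  show τ a (τ b v) = τ b (τ a v)
  have h1 := h b a v
  have h2 := h a b v
  rw [map_sub] at h1 h2
  rw [sub_eq_iff_eq_add] at h1 h2
  rw [h1, h2]; abel

/-- The kernel of a nontrivial action is central. -/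
theorem mem_center_of_image_central (hK : IsQuasisimple K) {M : Type*} [Monoid M] (τ : K →* M)
    (hnt : ∃ k, τ k ≠ 1) {x : K} (hx : ∀ l, τ x * τ l = τ l * τ x) : x ∈ Subgroup.center K := by
  by_contra hc
  obtain ⟨k0, hk0⟩ := hnt
  refine hk0 (hom_trivial_of_comm hK τ ?_ k0)
  refine forall_of_noncentral hK (fun k => ∀ l, τ k * τ l = τ l * τ k) ?_ ?_ ?_ ?_ hc hx
  · intro l; rw [map_one, one_mul, mul_one]
  · intro a b ha hb l
    rw [map_mul, mul_assoc, hb l, ← mul_assoc, ha l, mul_assoc]
  · intro a ha l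
    calc τ a⁻¹ * τ l = τ a⁻¹ * (τ l * τ a) * τ a⁻¹ := by
          rw [mul_assoc (τ a⁻¹), mul_assoc (τ l), ← map_mul τ a a⁻¹, mul_inv_cancel, map_one, mul_one]
      _ = τ a⁻¹ * (τ a * τ l) * τ a⁻¹ := by rw [ha l]
      _ = τ l * τ a⁻¹ := by rw [← mul_assoc (τ a⁻¹), ← map_mul τ a⁻¹ a, inv_mul_cancel, map_one, one_mul]
  · intro g a ha l
    have h := ha (g⁻¹ * l * g)
    have h2 := congrArg (fun z => τ g * z * τ g⁻¹) h
    simp only [← map_mul] at h2 ⊢
    simpa [mul_assoc] using h2

/-- A quasisimple group has noncentral elements of order prime to `p`. -/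
theorem exists_noncentral_coprime [Finite K] (hK : IsQuasisimple K) (p : ℕ) [Fact p.Prime] :
    ∃ x : K, x ∉ Subgroup.center K ∧ (orderOf x).Coprime p := by
  by_contra hcon
  push Not at hcon
  have hp : IsPGroup p (K ⧸ Subgroup.center K) := by
    intro q
    induction q using QuotientGroup.induction_on with
    | H k =>
      obtain ⟨i, m, hm, hkm⟩ :=
        Nat.exists_eq_pow_mul_and_not_dvd (orderOf_pos k).ne' p (Fact.out (p := p.Prime)).ne_one
      refine ⟨i, ?_⟩
      rw [← QuotientGroup.mk_pow, QuotientGroup.eq_one_iff]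
      by_contra hc
      refine hcon _ hc ?_
      rw [orderOf_pow, hkm, Nat.gcd_eq_right (Dvd.intro _ rfl),
        Nat.mul_div_cancel_left _ (pow_pos (Fact.out (p := p.Prime)).pos i)]
      exact ((Fact.out (p := p.Prime)).coprime_iff_not_dvd.mpr hm).symm
  haveI := hp.isNilpotent
  have hs := hK.2
  haveI := hK.1
  have hsurj := QuotientGroup.mk'_surjective (Subgroup.center K)
  have hperf : Group.IsSolvable (K ⧸ Subgroup.center K) := inferInstance
  have : Subgroup.center K = ⊤ := by
    rw [eq_top_iff]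
    intro k _
    have h1 := hom_trivial_of_comm hK (QuotientGroup.mk' (Subgroup.center K))
      (fun a b => IsSimpleGroup.comm_iff_isSolvable.mpr hperf _ _) k
    exact (QuotientGroup.eq_one_iff k).mp h1
  exact Components.quasisimple_center_ne_top hK this

end Quasisimple

section Actions

variable {K A : Type*} [Group K] [CommGroup A]

/-- The conjugate of the action of `K` by `a`. -/
def tw (σ : K →* AddMonoid.End V) (α : A →* AddMonoid.End V) (a : A) : K →* AddMonoid.End V where
  toFun k := α a * σ k * α a⁻¹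
  map_one' := by rw [map_one, mul_one, ← map_mul, mul_inv_cancel, map_one]
  map_mul' k l := by
    rw [map_mul]
    calc α a * (σ k * σ l) * α a⁻¹ = α a * σ k * (α a⁻¹ * α a) * σ l * α a⁻¹ := by
          rw [← map_mul α a⁻¹ a, inv_mul_cancel, map_one, mul_one]; simp only [mul_assoc]
      _ = α a * σ k * α a⁻¹ * (α a * σ l * α a⁻¹) := by simp only [mul_assoc]

variable {σ : K →* AddMonoid.End V} {α : A →* AddMonoid.End V}

theorem tw_apply (a : A) (k : K) : tw σ α a k = α a * σ k * α a⁻¹ := rfl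

theorem tw_one (k : K) : tw σ α 1 k = σ k := by simp [tw_apply]

theorem tw_mul (a b : A) (k : K) : tw σ α (a * b) k = α a * tw σ α b k * α a⁻¹ := by
  rw [tw_apply, tw_apply, map_mul, mul_inv, mul_comm a⁻¹ b⁻¹, map_mul]
  simp only [mul_assoc]

theorem alpha_mul_inv (a : A) : α a * α a⁻¹ = 1 := by rw [← map_mul, mul_inv_cancel, map_one]

theorem alpha_inv_mul (a : A) : α a⁻¹ * α a = 1 := by rw [← map_mul, inv_mul_cancel, map_one]

theorem alpha_comm (a b : A) : α a * α b = α b * α a := by rw [← map_mul, ← map_mul, mul_comm]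

theorem alpha_tw (a : A) (k : K) : α a * σ k = tw σ α a k * α a := by
  rw [tw_apply, mul_assoc, mul_assoc, alpha_inv_mul, mul_one]

theorem alpha_tw_apply (a : A) (k : K) (v : V) : α a (σ k v) = tw σ α a k (α a v) :=
  DFunLike.congr_fun (alpha_tw (σ := σ) (α := α) a k) v

variable (σ α) in
/-- `a` carries the image of `K` to a commuting copy. -/
def Moves (a : A) : Prop := ∀ k l, Commute (σ k) (tw σ α a l)

variable (σ α) in
/-- `a` normalizes the image of `K`. -/
def Norm (a : A) : Prop := ∀ k, ∃ l, tw σ α a k = σ l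

theorem norm_one : Norm σ α 1 := fun k => ⟨k, tw_one k⟩

theorem Norm.mul {a b : A} (ha : Norm σ α a) (hb : Norm σ α b) : Norm σ α (a * b) := fun k => by
  obtain ⟨l, hl⟩ := hb k
  obtain ⟨m, hm⟩ := ha l
  exact ⟨m, by rw [tw_mul, hl, ← tw_apply, hm]⟩

theorem Norm.pow {a : A} (ha : Norm σ α a) : ∀ n : ℕ, Norm σ α (a ^ n)
  | 0 => by rw [pow_zero]; exact norm_one
  | n + 1 => by rw [pow_succ]; exact (Norm.pow ha n).mul ha

theorem Norm.inv [Finite A] {a : A} (ha : Norm σ α a) : Norm σ α a⁻¹ := by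
  have : a⁻¹ = a ^ (orderOf a - 1) := by
    rw [inv_eq_iff_mul_eq_one, ← pow_succ', Nat.sub_add_cancel (orderOf_pos a), pow_orderOf_eq_one]
  rw [this]; exact ha.pow _

theorem Norm.not_moves [Finite A] (hK : IsQuasisimple K) (hnt : ∃ k, σ k ≠ 1) {a : A}
    (ha : Norm σ α a) : ¬ Moves σ α a := by
  intro hm
  obtain ⟨k0, hk0⟩ := hnt
  refine hk0 (hom_trivial_of_comm hK σ (fun k l => ?_) k0)
  obtain ⟨m, hm'⟩ := ha.inv l
  have : σ l = tw σ α a m := by
    rw [tw_apply a m, ← hm', ← tw_mul, mul_inv_cancel, tw_one]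
  rw [this]
  exact (hm k m).eq

/-- Conjugates by `a` and `b` commute when `a⁻¹ b` moves `K`. -/
theorem Moves.commute {a b : A} (h : Moves σ α (a⁻¹ * b)) (k l : K) :
    Commute (tw σ α a k) (tw σ α b l) := by
  have e : tw σ α b l = α a * tw σ α (a⁻¹ * b) l * α a⁻¹ := by
    rw [← tw_mul, mul_inv_cancel_left]
  rw [e, tw_apply, Commute, SemiconjBy]
  calc α a * σ k * α a⁻¹ * (α a * tw σ α (a⁻¹ * b) l * α a⁻¹)
      = α a * (σ k * (α a⁻¹ * α a) * tw σ α (a⁻¹ * b) l) * α a⁻¹ := by simp only [mul_assoc]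
    _ = α a * (tw σ α (a⁻¹ * b) l * (α a⁻¹ * α a) * σ k) * α a⁻¹ := by
      rw [alpha_inv_mul, mul_one, mul_one, (h k l).eq]
    _ = _ := by simp only [mul_assoc]

/-- Fixed points of the copies are permuted. -/
theorem alpha_mem_fix_tw {a : A} {v : V} (hv : v ∈ fix (Set.range σ)) :
    α a v ∈ fix (Set.range (tw σ α a)) := by
  rw [mem_fix_range] at hv ⊢
  intro k
  rw [← alpha_tw_apply, hv]

end Actions

end Cfsg.Agent.LocEven.Chermak
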