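import Cfsg.Agent.LocEven.Chermak.Basic

/-!
Weights `|B| |C_V(B)|` and Timmesfeld's replacement for an abelian group acting on a module.
-/

set_option autoImplicit false

namespace Cfsg.Agent.LocEven.Chermak

variable {V : Type*} [AddCommGroup V] {A : Type*} [CommGroup A] {α : A →* AddMonoid.End V}

variable (α) in
/-- The fixed points of a subgroup. -/
def fixA (B : Subgroup A) : AddSubgroup V := fix (α '' (B : Set A))

theorem mem_fixA {B : Subgroup A} {v : V} : v ∈ fixA α B ↔ ∀ b ∈ B, α b v = v :=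
  ⟨fun h b hb => h _ ⟨b, hb, rfl⟩, fun h f hf => by obtain ⟨b, hb, rfl⟩ := hf; exact h b hb⟩

theorem fixA_anti {B C : Subgroup A} (h : B ≤ C) : fixA α C ≤ fixA α B :=
  fix_anti (Set.image_mono h)

theorem alpha_mem_fixA {B : Subgroup A} {v : V} (hv : v ∈ fixA α B) (a : A) :
    α a v ∈ fixA α B :=
  fix_mem_of_commute (fun f hf => by
    obtain ⟨b, -, rfl⟩ := hf
    exact alpha_comm b a) hv

variable (α) in
/-- `|B| |C_V(B)|`. -/
noncomputable def wt (B : Subgroup A) : ℕ := Nat.card B * Nat.card (fixA α B)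

theorem card_add_mul_le [Finite V] (X Y : AddSubgroup V) :
    Nat.card X * Nat.card Y ≤ Nat.card (X ⊔ Y : AddSubgroup V) * Nat.card (X ⊓ Y : AddSubgroup V) := by
  have h1 : Nat.card Y * Y.relIndex (X ⊔ Y) = Nat.card (X ⊔ Y : AddSubgroup V) := by
    rw [← AddSubgroup.relIndex_bot_left Y, ← AddSubgroup.relIndex_bot_left (X ⊔ Y)]
    exact AddSubgroup.relIndex_mul_relIndex _ _ _ bot_le le_sup_right
  have h2 : Nat.card (X ⊓ Y : AddSubgroup V) * Y.relIndex X = Nat.card X := by
    rw [← AddSubgroup.inf_relIndex_right Y X, inf_comm Y X, ← AddSubgroup.relIndex_bot_left X,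
      ← AddSubgroup.relIndex_bot_left (X ⊓ Y)]
    exact AddSubgroup.relIndex_mul_relIndex _ _ _ bot_le inf_le_left
  have h3 : Y.relIndex (X ⊔ Y) = Y.relIndex X := AddSubgroup.relIndex_sup_right X Y
  calc Nat.card X * Nat.card Y = Nat.card (X ⊓ Y : AddSubgroup V) * Y.relIndex X * Nat.card Y := by
        rw [h2]
    _ = Nat.card Y * Y.relIndex (X ⊔ Y) * Nat.card (X ⊓ Y : AddSubgroup V) := by rw [h3]; ring
    _ = _ := by rw [h1]
    _ ≤ _ := le_rfl

theorem card_mul_le [Finite A] (X Y : Subgroup A) :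
    Nat.card X * Nat.card Y ≤ Nat.card (X ⊔ Y : Subgroup A) * Nat.card (X ⊓ Y : Subgroup A) := by
  have h1 : Nat.card Y * Y.relIndex (X ⊔ Y) = Nat.card (X ⊔ Y : Subgroup A) := by
    rw [← Subgroup.relIndex_bot_left Y, ← Subgroup.relIndex_bot_left (X ⊔ Y)]
    exact Subgroup.relIndex_mul_relIndex _ _ _ bot_le le_sup_right
  have h2 : Nat.card (X ⊓ Y : Subgroup A) * Y.relIndex X = Nat.card X := by
    rw [← Subgroup.inf_relIndex_right Y X, inf_comm Y X, ← Subgroup.relIndex_bot_left X,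
      ← Subgroup.relIndex_bot_left (X ⊓ Y)]
    exact Subgroup.relIndex_mul_relIndex _ _ _ bot_le inf_le_left
  have h3 : Y.relIndex (X ⊔ Y) = Y.relIndex X := Subgroup.relIndex_sup_right X Y
  calc Nat.card X * Nat.card Y = Nat.card (X ⊓ Y : Subgroup A) * Y.relIndex X * Nat.card Y := by
        rw [h2]
    _ = Nat.card Y * Y.relIndex (X ⊔ Y) * Nat.card (X ⊓ Y : Subgroup A) := by rw [h3]; ring
    _ = _ := by rw [h1]
    _ ≤ _ := le_rfl

variable (α) in
/-- The centralizer of `[V, A]`. -/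
def bar : Subgroup A where
  carrier := {b | ∀ a v, α b (α a v - v) = α a v - v}
  one_mem' a v := by rw [map_one]; rfl
  mul_mem' {b c} hb hc a v := by rw [map_mul, endo_mul_apply, hc a v, hb a v]
  inv_mem' {b} hb a v := by
    conv_lhs => rw [← hb a v, ← endo_mul_apply, alpha_inv_mul]
    rfl

variable (α) in
/-- `[V, A] + C_V(A)`. -/
def augSpan : AddSubgroup V :=
  AddSubgroup.closure {w | ∃ a v, w = α a v - v} ⊔ fixA α ⊤

/-- Timmesfeld's replacement. -/
theorem replacement [Finite V] [Finite A] (hbest : ∀ B, wt α B ≤ wt α ⊤) :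
    wt α (bar α) = wt α ⊤ ∧ fixA α (bar α) ≤ augSpan α := by
  classical
  let Bv : V → Subgroup A := fun v =>
    { carrier := {b | ∀ a, α b (α a v - v) = α a v - v}
      one_mem' := fun a => by rw [map_one]; rfl
      mul_mem' := fun {b c} hb hc a => by rw [map_mul, endo_mul_apply, hc a, hb a]
      inv_mem' := fun {b} hb a => by
        conv_lhs => rw [← hb a, ← endo_mul_apply, alpha_inv_mul]
        rfl }
  let Good : Subgroup A → Prop := fun B => wt α B = wt α ⊤ ∧ fixA α B ≤ augSpan α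
  have hv : ∀ v, Good (Bv v) := by
    intro v
    set T : AddSubgroup V := AddSubgroup.closure {w | ∃ a, w = α a v - v} ⊔ fixA α ⊤ with hT
    have hTle : T ≤ fixA α (Bv v) := by
      refine sup_le ((AddSubgroup.closure_le _).mpr ?_) (fixA_anti le_top)
      rintro _ ⟨a, rfl⟩
      exact mem_fixA.mpr fun b hb => hb a
    have hmem : ∀ (a : A) (c : fixA α ⊤), α a v - v + (c : V) ∈ T := fun a c =>
      T.add_mem (AddSubgroup.mem_sup_left (AddSubgroup.subset_closure ⟨a, rfl⟩))
        (AddSubgroup.mem_sup_right c.2)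
    have hfib : ∀ a a', (α a v - v) - (α a' v - v) ∈ fixA α ⊤ → a'⁻¹ * a ∈ Bv v := by
      intro a a' h c
      have h1 := mem_fixA.mp h c (Subgroup.mem_top c)
      have h2 : α c (α a v) - α a v = α c (α a' v) - α a' v := by
        simp only [map_sub] at h1
        calc α c (α a v) - α a v = (α c (α a v) - α c v - (α c (α a' v) - α c v))
              + (α c (α a' v)) - α a v := by abel
          _ = _ := by rw [h1]; abel
      have h3 : α a (α c v - v) = α a' (α c v - v) := by
        rw [map_sub, map_sub, ← endo_mul_apply (α a), ← endo_mul_apply (α a'), alpha_comm a c,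
          alpha_comm a' c, endo_mul_apply, endo_mul_apply]
        exact h2
      show α (a'⁻¹ * a) (α c v - v) = α c v - v
      rw [map_mul, endo_mul_apply, h3, ← endo_mul_apply, alpha_inv_mul]
      rfl
    let r : T → A := fun s =>
      if h : ∃ a, (s : V) - (α a v - v) ∈ fixA α ⊤ then h.choose else 1
    have hr : ∀ (a : A) (c : fixA α ⊤), (r ⟨_, hmem a c⟩)⁻¹ * a ∈ Bv v := by
      intro a c
      have hex : ∃ a', (α a v - v + (c : V)) - (α a' v - v) ∈ fixA α ⊤ :=
        ⟨a, by rw [show α a v - v + (c : V) - (α a v - v) = c by abel]; exact c.2⟩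
      have hr' : r ⟨_, hmem a c⟩ = hex.choose := dif_pos hex
      rw [hr']
      refine hfib _ _ ?_
      have := (fixA α ⊤).sub_mem hex.choose_spec c.2
      rwa [show α a v - v + (c : V) - (α hex.choose v - v) - c
        = (α a v - v) - (α hex.choose v - v) by abel] at this
    have hle : wt α ⊤ ≤ Nat.card (Bv v) * Nat.card T := by
      rw [wt, ← Nat.card_prod, ← Nat.card_prod]
      refine Nat.card_le_card_of_injective (fun x : (⊤ : Subgroup A) × fixA α ⊤ =>
        ((⟨_, hr x.1 x.2⟩, ⟨_, hmem x.1 x.2⟩) : Bv v × T)) ?_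
      rintro ⟨a, c⟩ ⟨a', c'⟩ h
      simp only [Prod.mk.injEq, Subtype.mk.injEq] at h
      obtain ⟨h1, h2⟩ := h
      have e : (⟨_, hmem a c⟩ : T) = ⟨_, hmem a' c'⟩ := Subtype.ext h2
      rw [e] at h1
      have ha : a = a' := Subtype.ext (mul_left_cancel h1)
      subst ha
      exact Prod.ext rfl (Subtype.ext (add_left_cancel h2))
    have h1 : Nat.card (Bv v) * Nat.card T ≤ wt α (Bv v) :=
      Nat.mul_le_mul_left _ (AddSubgroup.card_le_of_le hTle)
    have h2 := le_antisymm (hbest (Bv v)) (hle.trans h1)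
    refine ⟨h2, ?_⟩
    have h3 : T = fixA α (Bv v) := AddSubgroup.eq_of_le_of_card_ge hTle
      (Nat.le_of_mul_le_mul_left (h2.le.trans hle) Nat.card_pos)
    rw [← h3]
    refine sup_le (le_sup_of_le_left (AddSubgroup.closure_mono ?_)) le_sup_right
    rintro _ ⟨a, rfl⟩
    exact ⟨a, v, rfl⟩
  have hinf : ∀ X Y, Good X → Good Y → Good (X ⊓ Y) := by
    intro X Y hX hY
    have hc1 := card_mul_le X Y
    have hc2 := card_add_mul_le (fixA α X) (fixA α Y)
    have hinter : fixA α X ⊓ fixA α Y ≤ fixA α (X ⊔ Y) := fun w hw => mem_fixA.mpr fun b hb => by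
      obtain ⟨x, hx, y, hy, rfl⟩ := Subgroup.mem_sup.mp hb
      rw [map_mul, endo_mul_apply, mem_fixA.mp hw.2 y hy, mem_fixA.mp hw.1 x hx]
    have hsum : fixA α X ⊔ fixA α Y ≤ fixA α (X ⊓ Y) :=
      sup_le (fixA_anti inf_le_left) (fixA_anti inf_le_right)
    have hM : 0 < wt α ⊤ := Nat.mul_pos Nat.card_pos Nat.card_pos
    have h3 : wt α ⊤ * wt α ⊤ ≤ Nat.card (X ⊓ Y : Subgroup A) *
        Nat.card (fixA α X ⊔ fixA α Y : AddSubgroup V) * wt α ⊤ := by
      calc wt α ⊤ * wt α ⊤ = wt α X * wt α Y := by rw [hX.1, hY.1]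
        _ = (Nat.card X * Nat.card Y) * (Nat.card (fixA α X) * Nat.card (fixA α Y)) := by
          unfold wt; ring
        _ ≤ _ := Nat.mul_le_mul hc1 hc2
        _ = Nat.card (X ⊓ Y : Subgroup A) * Nat.card (fixA α X ⊔ fixA α Y : AddSubgroup V) *
            (Nat.card (X ⊔ Y : Subgroup A) * Nat.card (fixA α X ⊓ fixA α Y : AddSubgroup V)) := by
          ring
        _ ≤ _ := Nat.mul_le_mul_left _
          ((Nat.mul_le_mul_left _ (AddSubgroup.card_le_of_le hinter)).trans (hbest _))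
    have h4 := Nat.le_of_mul_le_mul_right h3 hM
    have h5 := le_antisymm (hbest (X ⊓ Y))
      (h4.trans (Nat.mul_le_mul_left _ (AddSubgroup.card_le_of_le hsum)))
    refine ⟨h5, ?_⟩
    rw [← AddSubgroup.eq_of_le_of_card_ge hsum (Nat.le_of_mul_le_mul_left (h5.le.trans h4)
      Nat.card_pos)]
    exact sup_le hX.2 hY.2
  haveI := Fintype.ofFinite V
  have hall : ∀ s : Finset V, Good (s.inf Bv) := by
    intro s
    induction s using Finset.induction_on with
    | empty => exact ⟨rfl, le_sup_right⟩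
    | insert v s _ ih => rw [Finset.inf_insert]; exact hinf _ _ (hv v) ih
  have e : Finset.univ.inf Bv = bar α := by
    refine le_antisymm (fun b hb a v => ?_) (Finset.le_inf fun v _ b hb a => hb a v)
    exact (Finset.inf_le (f := Bv) (Finset.mem_univ v)) hb a
  exact e ▸ hall Finset.univ

/-- If `[V,A] + C_V(A)` is everything, the action is trivial. -/
theorem trivial_of_augSpan [Finite V] [Finite A] {p : ℕ} [hp : Fact p.Prime]
    (hV : ∀ v : V, p • v = 0) (hA : ∀ a : A, a ^ p = 1) (h : ⊤ ≤ augSpan α) :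
    ∀ a v, α a v = v := by
  by_contra hne
  push Not at hne
  obtain ⟨a0, v0, h0⟩ := hne
  let P : AddSubgroup V → Prop := fun W => fixA α ⊤ ≤ W ∧ W ≠ ⊤ ∧ ∀ a, ∀ w ∈ W, α a w ∈ W
  have hP0 : P (fixA α ⊤) := ⟨le_rfl, fun he => h0 (mem_fixA.mp (he ▸ AddSubgroup.mem_top v0) a0
    (Subgroup.mem_top a0)), fun a w hw => alpha_mem_fixA hw a⟩
  obtain ⟨W, -, hW⟩ : ∃ W, fixA α ⊤ ≤ W ∧ Maximal P W :=
    Finite.exists_le_maximal hP0
  obtain ⟨hfW, hWtop, hWinv⟩ := hW.1
  let act : MulAction A (V ⧸ W) :=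
    { smul := fun a q => quot α W hWinv a q
      one_smul := fun q => by
        show quot α W hWinv 1 q = q
        rw [map_one]; rfl
      mul_smul := fun a b q => by
        show quot α W hWinv (a * b) q = quot α W hWinv a (quot α W hWinv b q)
        rw [map_mul]; rfl }
  have hsmul : ∀ (a : A) (v : V), act.smul a (v : V ⧸ W) = ((α a v : V) : V ⧸ W) := fun _ _ => rfl
  have hpA : IsPGroup p A := fun a => ⟨1, by rw [pow_one]; exact hA a⟩
  obtain ⟨v1, hv1⟩ : ∃ v : V, v ∉ W := by
    by_contra hc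
    push Not at hc
    exact hWtop (eq_top_iff.mpr fun v _ => hc v)
  have hdvd : p ∣ Nat.card (V ⧸ W) := by
    have h1 : addOrderOf (v1 : V ⧸ W) = p := addOrderOf_eq_prime
      (by rw [← QuotientAddGroup.mk_nsmul, hV, QuotientAddGroup.mk_zero])
      (fun he => hv1 ((QuotientAddGroup.eq_zero_iff v1).mp he))
    rw [← h1]; exact addOrderOf_dvd_natCard _
  have h0mem : (0 : V ⧸ W) ∈ MulAction.fixedPoints A (V ⧸ W) := fun a => by
    show act.smul a ((0 : V) : V ⧸ W) = _
    rw [hsmul, map_zero]; rfl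
  obtain ⟨q, hq, hq0⟩ := hpA.exists_fixed_point_of_prime_dvd_card_of_fixed_point (V ⧸ W) hdvd h0mem
  induction q using QuotientAddGroup.induction_on with
  | H u =>
    have hu : ∀ a, α a u - u ∈ W := fun a => by
      rw [← QuotientAddGroup.eq_zero_iff, QuotientAddGroup.mk_sub, sub_eq_zero, ← hsmul]
      exact hq a
    have huW : u ∉ W := fun hu' => hq0 ((QuotientAddGroup.eq_zero_iff u).mpr hu').symm
    have hall : ∀ v, ∃ (n : ℤ), v - n • u ∈ W := by
      have hle : W ≤ W ⊔ AddSubgroup.zmultiples u := le_sup_left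
      have hinv' : ∀ a, ∀ w ∈ W ⊔ AddSubgroup.zmultiples u, α a w ∈ W ⊔ AddSubgroup.zmultiples u := by
        intro a w hw
        obtain ⟨x, hx, y, hy, rfl⟩ := AddSubgroup.mem_sup.mp hw
        obtain ⟨n, rfl⟩ := AddSubgroup.mem_zmultiples_iff.mp hy
        rw [map_add, map_zsmul]
        refine add_mem (AddSubgroup.mem_sup_left (hWinv a x hx)) ?_
        rw [show α a u = (α a u - u) + u by abel, zsmul_add]
        exact add_mem (AddSubgroup.mem_sup_left (W.zsmul_mem (hu a) n))
          (AddSubgroup.mem_sup_right (AddSubgroup.zsmul_mem _ (AddSubgroup.mem_zmultiples u) n))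
      have htop : W ⊔ AddSubgroup.zmultiples u = ⊤ := by
        by_contra hne
        have h1 := hW.2 ⟨hfW.trans hle, hne, hinv'⟩ hle
        exact huW (h1 (AddSubgroup.mem_sup_right (AddSubgroup.mem_zmultiples u)))
      intro v
      obtain ⟨x, hx, y, hy, hxy⟩ := AddSubgroup.mem_sup.mp (htop ▸ AddSubgroup.mem_top v :
        v ∈ W ⊔ AddSubgroup.zmultiples u)
      obtain ⟨n, rfl⟩ := AddSubgroup.mem_zmultiples_iff.mp hy
      exact ⟨n, by rw [← hxy, add_sub_cancel_right]; exact hx⟩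
    refine hWtop (eq_top_iff.mpr (h.trans (sup_le ((AddSubgroup.closure_le _).mpr ?_) hfW)))
    rintro _ ⟨a, v, rfl⟩
    obtain ⟨n, hn⟩ := hall v
    have e : α a v - v = (α a (v - n • u) - (v - n • u)) + n • (α a u - u) := by
      rw [map_sub, map_zsmul, zsmul_sub]; abel
    rw [e]
    exact W.add_mem (W.sub_mem (hWinv a _ hn) hn) (W.zsmul_mem (hu a) n)

end Cfsg.Agent.LocEven.Chermak
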